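/-
helper91: project D4INV (S2183, the involutions of `³D₄(q)`, `q` even): the six root elements of the positive
part `U¹` of the twisted group (type `G₂`: `b`, `a`, `a+b`, `2a+b`, `3a+b`, `3a+2b`), the normal form `uu`,
the trace, norm and the two twisted forms, and the application of a `wordEqChk` certificate.
-/
import Cfsg.Agent.Lib.Helper91.TwOut.D4Defs
import Cfsg.Agent.Lib.Helper91.WordModP

set_option autoImplicit false

namespace Cfsg.Agent.Lib.Helper91.D4Inv

open Cfsg Cfsg.Lie Cfsg.Agent.Lib.Helper18 Cfsg.Agent.Lib.Helper91.TwOut Cfsg.Agent.Lib.Helper91.ExcAut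

universe u

variable {K : Type u} [Field K] (φ : K ≃+* K)

/-- The root element of the class `{p₁+p₂, p₂+p₃, p₂+p₄}` (the short root `a+b`). -/
noncomputable def xabG (t : K) : GL chevD4.Idx K := xG hD4 19 t * (xG hD4 16 (φ t) * xG hD4 15 (φ (φ t)))

/-- The root element of the class `{p₂+p₃+p₄, p₁+p₂+p₄, p₁+p₂+p₃}` (the short root `2a+b`). -/
noncomputable def x2abG (t : K) : GL chevD4.Idx K := xG hD4 17 t * (xG hD4 20 (φ t) * xG hD4 21 (φ (φ t)))

/-- The normal form of the elements of `U¹`: `x_b(u₁) x_a(a) x_{a+b}(c) x_{2a+b}(d) x_{3a+b}(u₂) x_{3a+2b}(u₃)`. -/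
noncomputable def uu (u₁ a c d u₂ u₃ : K) : GL chevD4.Idx K :=
  xG hD4 14 u₁ * xaG φ a * xabG φ c * x2abG φ d * xG hD4 22 u₂ * xG hD4 23 u₃

/-- The trace to the fixed field. -/
def tr (x : K) : K := x + φ x + φ (φ x)

/-- The norm to the fixed field. -/
def nm (x : K) : K := x * φ x * φ (φ x)

/-- The alternating form `θ(x, y) = φx φ²y + φ²x φy`. -/
def th (x y : K) : K := φ x * φ (φ y) + φ (φ x) * φ y

/-- The form `κ(x, y) = Tr(x φy φ²y)` (linear in `x`, quadratic in `y`). -/
def ka (x y : K) : K := tr φ (x * φ y * φ (φ y))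

/-- The word of `uu`. -/
theorem uu_eq_wordG (u₁ a c d u₂ u₃ : K) :
    uu φ u₁ a c d u₂ u₃ = wordG hD4 [(14, u₁), (18, a), (13, φ a), (12, φ (φ a)), (19, c), (16, φ c), (15, φ (φ c)),
      (17, d), (20, φ d), (21, φ (φ d)), (22, u₂), (23, u₃)] := by
  simp only [uu, xaG, xabG, x2abG, wordG_cons, wordG_nil, mul_one, mul_assoc]

theorem xaG_eq_wordG (t : K) : xaG φ t = wordG hD4 [(18, t), (13, φ t), (12, φ (φ t))] := by
  simp only [xaG, wordG_cons, wordG_nil, mul_one]

theorem yaG_eq_wordG (t : K) : yaG φ t = wordG hD4 [(5, t), (10, φ t), (11, φ (φ t))] := by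
  simp only [yaG, wordG_cons, wordG_nil, mul_one]

theorem xabG_eq_wordG (t : K) : xabG φ t = wordG hD4 [(19, t), (16, φ t), (15, φ (φ t))] := by
  simp only [xabG, wordG_cons, wordG_nil, mul_one]

theorem x2abG_eq_wordG (t : K) : x2abG φ t = wordG hD4 [(17, t), (20, φ t), (21, φ (φ t))] := by
  simp only [x2abG, wordG_cons, wordG_nil, mul_one]

theorem xG_eq_wordG (r : ℕ) (t : K) : xG hD4 r t = wordG hD4 [(r, t)] := by
  simp only [wordG_cons, wordG_nil, mul_one]

/-- The valuation of the variables `X₀, X₁, …` by a list (default value `1`). -/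
def vρ (l : List K) : ℕ → K := fun k => l.getD k 1

/-- Application of a certificate: the variables `X₂, X₃, …` take the values in the list `l`. -/
theorem cert [CharP K 2] (l : List K) (w₁ w₂ : List (ℕ × Poly)) (hc : wordEqChk chevD4 2 w₁ w₂ = true) :
    wordG hD4 (evWord (vρ ((1 : K) :: 1 :: l)) w₁) = wordG hD4 (evWord (vρ ((1 : K) :: 1 :: l)) w₂) := by
  apply Units.ext
  rw [coe_wordG, coe_wordG]
  exact wordMat_eq_of_wordEqChk chevD4 (vρ ((1 : K) :: 1 :: l)) (by simp [vρ]) 2 (CharP.cast_eq_zero K 2) w₁ w₂ hc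

end Cfsg.Agent.Lib.Helper91.D4Inv
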