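/-
helper91: project D4INV (S2183): arithmetic of a field automorphism `φ` of order dividing 3 in characteristic 2
(trace, norm and the forms `θ`, `κ` of `Defs`).
-/
import Cfsg.Agent.Lib.Helper91.D4Inv.Defs

set_option autoImplicit false
set_option linter.unusedSectionVars false

namespace Cfsg.Agent.Lib.Helper91.D4Inv

universe u

variable {K : Type u} [Field K] [CharP K 2] (φ : K ≃+* K)

theorem eq_of_add_eq_zero' {x y : K} (h : x + y = 0) : x = y := by
  have h2 : x + y + y = y := by rw [h, zero_add]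
  rw [add_assoc, CharTwo.add_self_eq_zero, add_zero] at h2
  exact h2

section Cube

variable (hφ3 : ∀ a : K, φ (φ (φ a)) = a)

include hφ3 in
theorem phi_tr (x : K) : φ (tr φ x) = tr φ x := by
  simp only [tr, map_add, hφ3]
  ring

include hφ3 in
theorem phi_nm (x : K) : φ (nm φ x) = nm φ x := by
  simp only [nm, map_mul, hφ3]
  ring

include hφ3 in
theorem phi_ka (x y : K) : φ (ka φ x y) = ka φ x y := phi_tr φ hφ3 _

theorem nm_ne_zero (x : K) (hx : x ≠ 0) : nm φ x ≠ 0 := by
  unfold nm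
  have h1 : φ x ≠ 0 := fun h => hx ((map_eq_zero φ).mp h)
  have h2 : φ (φ x) ≠ 0 := fun h => h1 ((map_eq_zero φ).mp h)
  exact mul_ne_zero (mul_ne_zero hx h1) h2

/-- The trace of a fixed element is the element itself (`3 = 1`). -/
theorem tr_fixed (w : K) (hw : φ w = w) : tr φ w = w := by
  unfold tr
  rw [hw, hw, CharTwo.add_self_eq_zero, zero_add]

include hφ3 in
/-- [D4INV-A1] -/
theorem arith1 (a c : K) (ha : a ≠ 0) (h : th φ a c = 0) : ∃ l : K, φ l = l ∧ c = l * a := by
  have h1 : φ a ≠ 0 := fun h => ha ((map_eq_zero φ).mp h)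
  have h2 : φ (φ a) ≠ 0 := fun h => h1 ((map_eq_zero φ).mp h)
  have e := eq_of_add_eq_zero' h
  -- φ a * φ (φ c) = φ (φ a) * φ c
  have e2 : φ (φ (c / a)) = φ (c / a) := by
    simp only [map_div₀]
    rw [div_eq_div_iff h2 h1]
    linear_combination e
  refine ⟨c / a, φ.injective e2, ?_⟩
  field_simp

include hφ3 in
/-- [D4INV-A2] -/
theorem arith2 (a d : K) (ha : a ≠ 0) (h : tr φ (a * d) = 0) : ∃ s : K, th φ a s = d := by
  have h1 : φ a ≠ 0 := fun h => ha ((map_eq_zero φ).mp h)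
  have h2 : φ (φ a) ≠ 0 := fun h => h1 ((map_eq_zero φ).mp h)
  refine ⟨a * d / (φ a * φ (φ a)), ?_⟩
  unfold th
  unfold tr at h
  simp only [map_mul, map_div₀, hφ3] at h ⊢
  have e : a * d + φ a * φ d + φ (φ a) * φ (φ d) = 0 := h
  field_simp
  have e3 : φ (φ a) * φ (φ d) = a * d + φ a * φ d := by
    have := eq_of_add_eq_zero' (x := a * d + φ a * φ d) (y := φ (φ a) * φ (φ d)) e
    exact this.symm
  rw [e3, add_assoc, CharTwo.add_self_eq_zero, add_zero]

/-- [D4INV-A3] -/
theorem arith3 (a w : K) (ha : a ≠ 0) (hw : φ w = w) : ∃ s : K, tr φ (a * s) = w := by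
  refine ⟨w / a, ?_⟩
  have e : a * (w / a) = w := by field_simp
  rw [e, tr_fixed φ w hw]

end Cube

/-- [D4INV-A4] square roots of fixed elements are fixed. -/
theorem arith4 [Fintype K] (x : K) (hx : φ x = x) : ∃ y : K, φ y = y ∧ y * y = x := by
  obtain ⟨r, hr⟩ := FiniteField.isSquare_of_char_two (ringChar.eq K 2) x
  refine ⟨r, ?_, hr.symm⟩
  have h1 : φ r * φ r = r * r := by rw [← map_mul, ← hr, hx]
  have h2 : (φ r + r) * (φ r + r) = 0 := by
    have : (φ r + r) * (φ r + r) = φ r * φ r + r * r + 2 * (φ r * r) := by ring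
    rw [this, h1, CharTwo.add_self_eq_zero, CharTwo.two_eq_zero, zero_mul, add_zero]
  exact eq_of_add_eq_zero' (mul_self_eq_zero.mp h2)

/-- Square roots. -/
theorem exists_sqrt [Fintype K] (x : K) : ∃ y : K, y * y = x := by
  obtain ⟨r, hr⟩ := FiniteField.isSquare_of_char_two (ringChar.eq K 2) x
  exact ⟨r, hr.symm⟩

end Cfsg.Agent.Lib.Helper91.D4Inv
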