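/-
helper91: project D4INV (S2183): conjugacy inside the twisted group `³D₄` (as a relation on the ambient `GL`),
membership of the root elements, and conjugation by the involutive root elements.
-/
import Cfsg.Agent.Lib.Helper91.D4Inv.Defs
import Cfsg.Agent.Lib.Helper91.TwOut.D4Card

set_option autoImplicit false

namespace Cfsg.Agent.Lib.Helper91.D4Inv

open Cfsg Cfsg.Lie Cfsg.Agent.Lib.Helper18 Cfsg.Agent.Lib.Helper91.TwOut Cfsg.Agent.Lib.Helper91.ExcAut

universe u

variable {K : Type u} [Field K] (φ : K ≃+* K)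

/-- Conjugacy under the twisted group. -/
def GConj (x y : GL chevD4.Idx K) : Prop := ∃ h ∈ GD4 φ, h * x * h⁻¹ = y

theorem GConj.refl (x : GL chevD4.Idx K) : GConj φ x x := ⟨1, one_mem _, by group⟩

theorem GConj.symm {x y : GL chevD4.Idx K} (h : GConj φ x y) : GConj φ y x := by
  obtain ⟨k, hk, rfl⟩ := h
  exact ⟨k⁻¹, inv_mem hk, by group⟩

theorem GConj.trans {x y z : GL chevD4.Idx K} (h1 : GConj φ x y) (h2 : GConj φ y z) : GConj φ x z := by
  obtain ⟨k, hk, rfl⟩ := h1
  obtain ⟨l, hl, rfl⟩ := h2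
  exact ⟨l * k, mul_mem hl hk, by group⟩

theorem GConj.sq {x y : GL chevD4.Idx K} (h : GConj φ x y) (hx : x * x = 1) : y * y = 1 := by
  obtain ⟨k, -, rfl⟩ := h
  have e : k * x * k⁻¹ * (k * x * k⁻¹) = k * (x * x) * k⁻¹ := by group
  rw [e, hx]
  group

theorem GConj.ne_one {x y : GL chevD4.Idx K} (h : GConj φ x y) (hx : x ≠ 1) : y ≠ 1 := by
  obtain ⟨k, -, rfl⟩ := h
  intro e
  apply hx
  have e2 : x = k⁻¹ * (k * x * k⁻¹) * k := by group
  rw [e2, e]
  group

/-- Conjugation by an element of the twisted group that is its own inverse. -/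
theorem GConj.of_invol {x y k : GL chevD4.Idx K} (hk : k ∈ GD4 φ) (hkk : k * k = 1) (h : k * x * k = y) :
    GConj φ x y := by
  refine ⟨k, hk, ?_⟩
  have e : k⁻¹ = k := inv_eq_of_mul_eq_one_right hkk
  rw [e, h]

section Char2

variable [CharP K 2]

theorem xG_sq (r : ℕ) (t : K) : xG hD4 r t * xG hD4 r t = 1 := by
  rw [xG_mul, CharTwo.add_self_eq_zero, xG_zero]

theorem xaG_sq (t : K) : xaG φ t * xaG φ t = 1 := by
  rw [xaG_add, CharTwo.add_self_eq_zero, xaG_zero]

theorem yaG_sq (t : K) : yaG φ t * yaG φ t = 1 := by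
  rw [yaG_add, CharTwo.add_self_eq_zero, yaG_zero]

end Char2

end Cfsg.Agent.Lib.Helper91.D4Inv
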