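/-
helper91: project D4INV (S2183), certificate `sq`: a word identity in the Chevalley group of type D₄ modulo 2
(machine generated, checked by `wordEqChk`). The certificate files import one another in a chain only to
force a sequential build (each check needs several GiB).
-/
import Cfsg.Agent.Lib.Helper91.WordModP
import Cfsg.Agent.Lib.Helper18.ChevDataD4
import Cfsg.Agent.Lib.Helper91.D4Inv.ChkCj2AB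

set_option autoImplicit false

namespace Cfsg.Agent.Lib.Helper91.D4Inv

open Cfsg Cfsg.Lie Cfsg.Agent.Lib.Helper18 Cfsg.Agent.Lib.Helper91.ExcAut

/-- Left word of `sq`; variables X2.. = u1, u2, u3, a0, a1, a2, c0, c1, c2, d0, d1, d2. -/
def sq_l : List (ℕ × Poly) :=
  [(14, [(1, [0, 0, 1])]), (18, [(1, [0, 0, 0, 0, 0, 1])]), (13, [(1, [0, 0, 0, 0, 0, 0, 1])]), (12, [(1, [0, 0, 0, 0, 0, 0, 0, 1])]), (19, [(1, [0, 0, 0, 0, 0, 0, 0, 0, 1])]), (16, [(1, [0, 0, 0, 0, 0, 0, 0, 0, 0, 1])]), (15, [(1, [0, 0, 0, 0, 0, 0, 0, 0, 0, 0, 1])]), (17, [(1, [0, 0, 0, 0, 0, 0, 0, 0, 0, 0, 0, 1])]), (20, [(1, [0, 0, 0, 0, 0, 0, 0, 0, 0, 0, 0, 0, 1])]), (21, [(1, [0, 0, 0, 0, 0, 0, 0, 0, 0, 0, 0, 0, 0, 1])]), (22, [(1, [0, 0, 0, 1])]), (23, [(1, [0, 0, 0, 0, 1])]), (14, [(1, [0,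 0, 1])]), (18, [(1, [0, 0, 0, 0, 0, 1])]), (13, [(1, [0, 0, 0, 0, 0, 0, 1])]), (12, [(1, [0, 0, 0, 0, 0, 0, 0, 1])]), (19, [(1, [0, 0, 0, 0, 0, 0, 0, 0, 1])]), (16, [(1, [0, 0, 0, 0, 0, 0, 0, 0, 0, 1])]), (15, [(1, [0, 0, 0, 0, 0, 0, 0, 0, 0, 0, 1])]), (17, [(1, [0, 0, 0, 0, 0, 0, 0, 0, 0, 0, 0, 1])]), (20, [(1, [0, 0, 0, 0, 0, 0, 0, 0, 0, 0, 0, 0, 1])]), (21, [(1, [0, 0, 0, 0, 0, 0, 0, 0, 0, 0, 0, 0, 0, 1])]), (22, [(1, [0, 0, 0, 1])]), (23, [(1, [0, 0, 0, 0, 1])])]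

/-- Right word of `sq`. -/
def sq_r : List (ℕ × Poly) :=
  [(19, [(1, [0, 0, 1, 0, 0, 1])]), (16, [(1, [0, 0, 1, 0, 0, 0, 1])]), (15, [(1, [0, 0, 1, 0, 0, 0, 0, 1])]), (17, [(1, [0, 0, 1, 0, 0, 0, 1, 1]), (1, [0, 0, 0, 0, 0, 0, 1, 0, 0, 0, 1]), (1, [0, 0, 0, 0, 0, 0, 0, 1, 0, 1])]), (20, [(1, [0, 0, 1, 0, 0, 1, 0, 1]), (1, [0, 0, 0, 0, 0, 1, 0, 0, 0, 0, 1]), (1, [0, 0, 0, 0, 0, 0, 0, 1, 1])]), (21, [(1, [0, 0, 1, 0, 0, 1, 1]), (1, [0, 0, 0, 0, 0, 1, 0, 0, 0, 1]), (1, [0, 0, 0, 0, 0, 0, 1, 0, 1])]), (22, [(1, [0, 0, 1, 0, 0, 1, 1, 1]), (1, [0, 0, 0, 0, 0, 1, 1, 0, 0, 0, 1]), (1, [0, 0, 0, 0, 0, 1, 0, 1, 0, 1]), (1, [0, 0, 0, 0, 0, 1, 0, 0, 0, 0, 0, 1]), (1, [0, 0, 0, 0, 0, 0, 1, 1, 1]), (1, [0, 0, 0, 0, 0, 0, 1, 0, 0, 0, 0, 0, 1]), (1, [0, 0, 0, 0, 0, 0, 0, 1,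 0, 0, 0, 0, 0, 1])]), (23, [(1, [0, 0, 2, 0, 0, 1, 1, 1]), (1, [0, 0, 0, 0, 0, 1, 0, 0, 0, 1, 1]), (1, [0, 0, 0, 0, 0, 0, 1, 0, 1, 0, 1]), (1, [0, 0, 0, 0, 0, 0, 0, 1, 1, 1]), (1, [0, 0, 0, 0, 0, 0, 0, 0, 1, 0, 0, 1]), (1, [0, 0, 0, 0, 0, 0, 0, 0, 0, 1, 0, 0, 1]), (1, [0, 0, 0, 0, 0, 0, 0, 0, 0, 0, 1, 0, 0, 1]), (1, [0, 0, 1, 1])])]

set_option maxRecDepth 1000000 in
theorem sq_chk : wordEqChk chevD4 2 sq_l sq_r = true := by decide +kernel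

end Cfsg.Agent.Lib.Helper91.D4Inv
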