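/-
helper91: project D4INV (S2183): the word identity `r6` in independent variables (from its certificate).
-/
import Cfsg.Agent.Lib.Helper91.D4Inv.Defs
import Cfsg.Agent.Lib.Helper91.D4Inv.ChkR6

set_option autoImplicit false

namespace Cfsg.Agent.Lib.Helper91.D4Inv

open Cfsg Cfsg.Lie Cfsg.Agent.Lib.Helper18 Cfsg.Agent.Lib.Helper91.TwOut Cfsg.Agent.Lib.Helper91.ExcAut

universe u

variable {K : Type u} [Field K] [CharP K 2]

set_option maxHeartbeats 1000000 in
theorem r6_raw (d0 d1 d2 s0 s1 s2 : K) :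
    wordG hD4 [(5, s0), (10, s1), (11, s2), (17, d0), (20, d1), (21, d2), (5, s0), (10, s1), (11, s2)]
      = wordG hD4 [(14, d0 * s1 * s2 + d1 * s0 * s2 + d2 * s0 * s1), (19, d1 * s2 + d2 * s1), (16, d0 * s2 + d2 * s0), (15, d0 * s1 + d1 * s0), (17, d0), (20, d1), (21, d2), (23, d0 * d1 * s2 + d0 * d2 * s1 + d1 * d2 * s0)] := by
  have h := cert [d0, d1, d2, s0, s1, s2] r6_l r6_r r6_chk
  have e1 : evWord (vρ ((1 : K) :: 1 :: [d0, d1, d2, s0, s1, s2])) r6_l
      = [(5, s0), (10, s1), (11, s2), (17, d0), (20, d1), (21, d2), (5, s0), (10, s1), (11, s2)] := by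
    simp only [r6_l, evWord, List.map_cons, List.map_nil, List.cons.injEq, Prod.mk.injEq, true_and, and_true]
    and_intros <;> simp [evPoly, evMono, evExp, vρ]
  have e2 : evWord (vρ ((1 : K) :: 1 :: [d0, d1, d2, s0, s1, s2])) r6_r
      = [(14, d0 * s1 * s2 + d1 * s0 * s2 + d2 * s0 * s1), (19, d1 * s2 + d2 * s1), (16, d0 * s2 + d2 * s0), (15, d0 * s1 + d1 * s0), (17, d0), (20, d1), (21, d2), (23, d0 * d1 * s2 + d0 * d2 * s1 + d1 * d2 * s0)] := by
    simp only [r6_r, evWord, List.map_cons, List.map_nil, List.cons.injEq, Prod.mk.injEq, true_and, and_true]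
    and_intros <;> (simp [evPoly, evMono, evExp, vρ]; try ring)
  rw [e1, e2] at h
  exact h

end Cfsg.Agent.Lib.Helper91.D4Inv
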