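/-
helper91: project D4INV (S2183): the relations of `U¹` of `³D₄(q)`, `q` even, in terms of the normal form `uu`:
conjugation of `uu` by the five root groups, the square of `uu`, and the conjugate of `x_{2a+b}(d)` by `y_a(s)`.
-/
import Cfsg.Agent.Lib.Helper91.D4Inv.RawCjA0
import Cfsg.Agent.Lib.Helper91.D4Inv.RawCjB
import Cfsg.Agent.Lib.Helper91.D4Inv.RawCjAB0
import Cfsg.Agent.Lib.Helper91.D4Inv.RawCj2AB
import Cfsg.Agent.Lib.Helper91.D4Inv.RawCj3AB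
import Cfsg.Agent.Lib.Helper91.D4Inv.RawSq
import Cfsg.Agent.Lib.Helper91.D4Inv.RawR6
import Cfsg.Agent.Lib.Helper91.TwOut.D4Card

set_option autoImplicit false

namespace Cfsg.Agent.Lib.Helper91.D4Inv

open Cfsg Cfsg.Lie Cfsg.Agent.Lib.Helper18 Cfsg.Agent.Lib.Helper91.TwOut Cfsg.Agent.Lib.Helper91.ExcAut

universe u

variable {K : Type u} [Field K] [CharP K 2] (φ : K ≃+* K)

theorem xabG_zero : xabG φ 0 = 1 := by
  simp only [xabG, map_zero, xG_zero, mul_one]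

theorem x2abG_zero : x2abG φ 0 = 1 := by
  simp only [x2abG, map_zero, xG_zero, mul_one]

/-- `uu` with `a = 0`. -/
theorem uu_a0 (u₁ c d u₂ u₃ : K) :
    uu φ u₁ 0 c d u₂ u₃ = wordG hD4 [(14, u₁), (19, c), (16, φ c), (15, φ (φ c)),
      (17, d), (20, φ d), (21, φ (φ d)), (22, u₂), (23, u₃)] := by
  simp only [uu, xaG_zero, xabG, x2abG, wordG_cons, wordG_nil, mul_one, mul_assoc]

/-- `uu` with `u₁ = 0`, `c = 0`. -/
theorem uu_u0c0 (a d u₂ u₃ : K) :
    uu φ 0 a 0 d u₂ u₃ = wordG hD4 [(18, a), (13, φ a), (12, φ (φ a)),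
      (17, d), (20, φ d), (21, φ (φ d)), (22, u₂), (23, u₃)] := by
  simp only [uu, xG_zero, xabG_zero, xaG, x2abG, wordG_cons, wordG_nil, mul_one, one_mul, mul_assoc]

variable (hφ3 : ∀ a : K, φ (φ (φ a)) = a)

include hφ3 in
/-- Conjugation by `x_a(s)` when `a = 0`. -/
theorem cjA0 (u₁ u₂ u₃ c d s : K) (h₁ : φ u₁ = u₁) :
    xaG φ s * uu φ u₁ 0 c d u₂ u₃ * xaG φ s
      = uu φ u₁ 0 (c + s * u₁) (d + th φ c s + φ s * φ (φ s) * u₁)
          (u₂ + ka φ c s + tr φ (d * s) + nm φ s * u₁) (u₃ + ka φ s c + ka φ c s * u₁ + nm φ s * u₁ ^ 2) := by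
  rw [uu_a0, uu_a0, xaG_eq_wordG, ← wordG_append, ← wordG_append]
  have h := cjA0_raw u₁ u₂ u₃ c (φ c) (φ (φ c)) d (φ d) (φ (φ d)) s (φ s) (φ (φ s))
  simp only [List.cons_append, List.nil_append]
  rw [h]
  congr 1
  simp only [List.cons.injEq, Prod.mk.injEq, true_and, and_true]
  and_intros <;> (try simp only [tr, nm, th, ka, map_add, map_mul, map_pow, hφ3, h₁]) <;> ring

include hφ3 in
/-- Conjugation by `x_b(w)`. -/
theorem cjB (u₁ u₂ u₃ a c d w : K) (hw : φ w = w) :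
    xG hD4 14 w * uu φ u₁ a c d u₂ u₃ * xG hD4 14 w
      = uu φ u₁ a (c + a * w) (d + φ a * φ (φ a) * w) (u₂ + nm φ a * w) (u₃ + ka φ c a * w + u₂ * w) := by
  rw [uu_eq_wordG, uu_eq_wordG, xG_eq_wordG, ← wordG_append, ← wordG_append]
  have h := cjB_raw u₁ u₂ u₃ a (φ a) (φ (φ a)) c (φ c) (φ (φ c)) d (φ d) (φ (φ d)) w
  simp only [List.cons_append, List.nil_append]
  rw [h]
  congr 1
  simp only [List.cons.injEq, Prod.mk.injEq, true_and, and_true]
  and_intros <;> (try simp only [tr, nm, th, ka, map_add, map_mul, map_pow, hφ3, hw]) <;> ring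

include hφ3 in
/-- Conjugation by `x_{a+b}(s)` when `u₁ = 0`, `c = 0`. -/
theorem cjAB0 (u₂ u₃ a d s : K) :
    xabG φ s * uu φ 0 a 0 d u₂ u₃ * xabG φ s
      = uu φ 0 a 0 (d + th φ a s) (u₂ + ka φ s a) (u₃ + ka φ a s + tr φ (d * s)) := by
  rw [uu_u0c0, uu_u0c0, xabG_eq_wordG, ← wordG_append, ← wordG_append]
  have h := cjAB0_raw u₂ u₃ a (φ a) (φ (φ a)) d (φ d) (φ (φ d)) s (φ s) (φ (φ s))
  simp only [List.cons_append, List.nil_append]
  rw [h]
  congr 1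
  simp only [List.cons.injEq, Prod.mk.injEq, true_and, and_true]
  and_intros <;> (try simp only [tr, nm, th, ka, map_add, map_mul, map_pow, hφ3]) <;> ring

include hφ3 in
/-- Conjugation by `x_{2a+b}(s)`. -/
theorem cj2AB (u₁ u₂ u₃ a c d s : K) :
    x2abG φ s * uu φ u₁ a c d u₂ u₃ * x2abG φ s
      = uu φ u₁ a c d (u₂ + tr φ (a * s)) (u₃ + tr φ (c * s)) := by
  rw [uu_eq_wordG, uu_eq_wordG, x2abG_eq_wordG, ← wordG_append, ← wordG_append]
  have h := cj2AB_raw u₁ u₂ u₃ a (φ a) (φ (φ a)) c (φ c) (φ (φ c)) d (φ d) (φ (φ d)) s (φ s) (φ (φ s))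
  simp only [List.cons_append, List.nil_append]
  rw [h]
  congr 1
  simp only [List.cons.injEq, Prod.mk.injEq, true_and, and_true]
  and_intros <;> (try simp only [tr, nm, th, ka, map_add, map_mul, map_pow, hφ3]) <;> ring

/-- Conjugation by `x_{3a+b}(w)`. -/
theorem cj3AB (u₁ u₂ u₃ a c d w : K) :
    xG hD4 22 w * uu φ u₁ a c d u₂ u₃ * xG hD4 22 w = uu φ u₁ a c d u₂ (u₃ + u₁ * w) := by
  rw [uu_eq_wordG, uu_eq_wordG, xG_eq_wordG, ← wordG_append, ← wordG_append]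
  have h := cj3AB_raw u₁ u₂ u₃ a (φ a) (φ (φ a)) c (φ c) (φ (φ c)) d (φ d) (φ (φ d)) w
  simp only [List.cons_append, List.nil_append]
  rw [h, add_comm (u₁ * w) u₃]

include hφ3 in
/-- The square of `uu`. -/
theorem uu_sq (u₁ u₂ u₃ a c d : K) (h₁ : φ u₁ = u₁) :
    uu φ u₁ a c d u₂ u₃ * uu φ u₁ a c d u₂ u₃
      = uu φ 0 0 (a * u₁) (φ a * φ (φ a) * u₁ + th φ a c) (nm φ a * u₁ + ka φ c a + tr φ (a * d))
          (nm φ a * u₁ ^ 2 + ka φ a c + tr φ (c * d) + u₁ * u₂) := by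
  have e : ∀ c' d' v₂ v₃ : K, uu φ 0 0 c' d' v₂ v₃ = wordG hD4 [(19, c'), (16, φ c'), (15, φ (φ c')),
      (17, d'), (20, φ d'), (21, φ (φ d')), (22, v₂), (23, v₃)] := by
    intro c' d' v₂ v₃
    simp only [uu, xG_zero, xaG_zero, xabG, x2abG, wordG_cons, wordG_nil, mul_one, one_mul, mul_assoc]
  rw [e, uu_eq_wordG, ← wordG_append]
  have h := sq_raw u₁ u₂ u₃ a (φ a) (φ (φ a)) c (φ c) (φ (φ c)) d (φ d) (φ (φ d))
  simp only [List.cons_append, List.nil_append]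
  rw [h]
  congr 1
  simp only [List.cons.injEq, Prod.mk.injEq, true_and, and_true]
  and_intros <;> (try simp only [tr, nm, th, ka, map_add, map_mul, map_pow, hφ3, h₁]) <;> ring

include hφ3 in
/-- The conjugate of `x_{2a+b}(d)` by `y_a(s)`. -/
theorem r6 (d s : K) :
    yaG φ s * x2abG φ d * yaG φ s
      = xG hD4 14 (ka φ d s) * xabG φ (th φ d s) * x2abG φ d * xG hD4 23 (tr φ (d * φ d * φ (φ s))) := by
  have e : xG hD4 14 (ka φ d s) * xabG φ (th φ d s) * x2abG φ d * xG hD4 23 (tr φ (d * φ d * φ (φ s)))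
      = wordG hD4 [(14, ka φ d s), (19, th φ d s), (16, φ (th φ d s)), (15, φ (φ (th φ d s))),
        (17, d), (20, φ d), (21, φ (φ d)), (23, tr φ (d * φ d * φ (φ s)))] := by
    simp only [xabG, x2abG, wordG_cons, wordG_nil, mul_one, mul_assoc]
  rw [e, yaG_eq_wordG, x2abG_eq_wordG, ← wordG_append, ← wordG_append]
  have h := r6_raw d (φ d) (φ (φ d)) s (φ s) (φ (φ s))
  simp only [List.cons_append, List.nil_append]
  rw [h]
  congr 1
  simp only [List.cons.injEq, Prod.mk.injEq, true_and, and_true]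
  and_intros <;> (try simp only [tr, nm, th, ka, map_add, map_mul, map_pow, hφ3]) <;> ring

end Cfsg.Agent.Lib.Helper91.D4Inv
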