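/-
helper91: project D4INV (S2183), module [CLS]: every involution of `U¹` of `³D₄(q)`, `q` even, is conjugate in the
twisted group to the long root element `x_{3a+2b}(1)` or to the short root element `x_{2a+b}(1)`.
The normal form facts ([NF]) and the fusion of root elements ([FL], [FS]) are hypotheses.
-/
import Cfsg.Agent.Lib.Helper91.D4Inv.Rel
import Cfsg.Agent.Lib.Helper91.D4Inv.Conj
import Cfsg.Agent.Lib.Helper91.D4Inv.Arith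

set_option autoImplicit false
set_option linter.unusedSectionVars false
set_option linter.unusedVariables false

namespace Cfsg.Agent.Lib.Helper91.D4Inv

open Cfsg Cfsg.Lie Cfsg.Agent.Lib.Helper18 Cfsg.Agent.Lib.Helper91.TwOut

universe u

variable {K : Type u} [Field K] [CharP K 2] (φ : K ≃+* K)

/-! ### Special values of `uu` and of the forms -/

theorem tr_zero : tr φ 0 = 0 := by simp [tr]

theorem nm_zero : nm φ 0 = 0 := by simp [nm]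

theorem th_zero_left (x : K) : th φ 0 x = 0 := by simp [th]

theorem th_zero_right (x : K) : th φ x 0 = 0 := by simp [th]

theorem ka_zero_left (x : K) : ka φ 0 x = 0 := by simp [ka, tr]

theorem ka_zero_right (x : K) : ka φ x 0 = 0 := by simp [ka, tr]

theorem uu_zero : uu φ 0 0 0 0 0 0 = 1 := by
  simp [uu, xG_zero, xaG_zero, xabG_zero, x2abG_zero]

theorem uu_x23 (v : K) : uu φ 0 0 0 0 0 v = xG hD4 23 v := by
  simp [uu, xG_zero, xaG_zero, xabG_zero, x2abG_zero]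

theorem uu_x22 (v : K) : uu φ 0 0 0 0 v 0 = xG hD4 22 v := by
  simp [uu, xG_zero, xaG_zero, xabG_zero, x2abG_zero]

theorem uu_x14 (v : K) : uu φ v 0 0 0 0 0 = xG hD4 14 v := by
  simp [uu, xG_zero, xaG_zero, xabG_zero, x2abG_zero]

theorem uu_xa (a : K) : uu φ 0 a 0 0 0 0 = xaG φ a := by
  simp [uu, xG_zero, xabG_zero, x2abG_zero]

theorem uu_xab (c : K) : uu φ 0 0 c 0 0 0 = xabG φ c := by
  simp [uu, xG_zero, xaG_zero, x2abG_zero]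

theorem uu_x2ab (d : K) : uu φ 0 0 0 d 0 0 = x2abG φ d := by
  simp [uu, xG_zero, xaG_zero, xabG_zero]

theorem uu_r6 (v d w : K) : uu φ v 0 0 d 0 w = xG hD4 14 v * xabG φ 0 * x2abG φ d * xG hD4 23 w := by
  simp [uu, xG_zero, xaG_zero, xabG_zero]

section Main

variable (hφ3 : ∀ a : K, φ (φ (φ a)) = a)
  (hInj : ∀ u₁ a c d u₂ u₃ u₁' a' c' d' u₂' u₃' : K, uu φ u₁ a c d u₂ u₃ = uu φ u₁' a' c' d' u₂' u₃' →
    u₁ = u₁' ∧ a = a' ∧ c = c' ∧ d = d' ∧ u₂ = u₂' ∧ u₃ = u₃')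
  (hMem : ∀ u₁ a c d u₂ u₃ : K, φ u₁ = u₁ → φ u₂ = u₂ → φ u₃ = u₃ → uu φ u₁ a c d u₂ u₃ ∈ GD4 φ)
  (hFL : ∀ u : K, φ u = u → u ≠ 0 → GConj φ (xG hD4 14 u) (xG hD4 23 1) ∧ GConj φ (xG hD4 22 u) (xG hD4 23 1) ∧
    GConj φ (xG hD4 23 u) (xG hD4 23 1))
  (hFS : ∀ t : K, t ≠ 0 → GConj φ (xaG φ t) (x2abG φ 1) ∧ GConj φ (xabG φ t) (x2abG φ 1) ∧
    GConj φ (x2abG φ t) (x2abG φ 1))

include hφ3 hInj in
/-- The conditions for `uu` to be an involution. -/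
theorem sq_conds {u₁ a c d u₂ u₃ : K} (h₁ : φ u₁ = u₁)
    (hsq : uu φ u₁ a c d u₂ u₃ * uu φ u₁ a c d u₂ u₃ = 1) :
    a * u₁ = 0 ∧ φ a * φ (φ a) * u₁ + th φ a c = 0 ∧ nm φ a * u₁ + ka φ c a + tr φ (a * d) = 0 ∧
      nm φ a * u₁ ^ 2 + ka φ a c + tr φ (c * d) + u₁ * u₂ = 0 := by
  rw [uu_sq φ hφ3 _ _ _ _ _ _ h₁, ← uu_zero φ] at hsq
  obtain ⟨-, -, e1, e2, e3, e4⟩ := hInj _ _ _ _ _ _ _ _ _ _ _ _ hsq
  exact ⟨e1, e2, e3, e4⟩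

include hφ3 hMem in
theorem xabG_mem (s : K) : xabG φ s ∈ GD4 φ := by
  rw [← uu_xab]
  exact hMem 0 0 s 0 0 0 (map_zero φ) (map_zero φ) (map_zero φ)

include hφ3 hMem in
theorem x2abG_mem (s : K) : x2abG φ s ∈ GD4 φ := by
  rw [← uu_x2ab]
  exact hMem 0 0 0 s 0 0 (map_zero φ) (map_zero φ) (map_zero φ)

include hφ3 hMem in
theorem x22_mem (w : K) (hw : φ w = w) : xG hD4 22 w ∈ GD4 φ := by
  rw [← uu_x22 φ]
  exact hMem 0 0 0 0 w 0 (map_zero φ) hw (map_zero φ)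

include hφ3 in
theorem xabG_sq (s : K) : xabG φ s * xabG φ s = 1 := by
  rw [← uu_xab, uu_sq φ hφ3 _ _ _ _ _ _ (map_zero φ), ← uu_zero φ]
  simp [th_zero_left, ka_zero_left, ka_zero_right, tr_zero, nm_zero]

include hφ3 in
theorem x2abG_sq (s : K) : x2abG φ s * x2abG φ s = 1 := by
  rw [← uu_x2ab, uu_sq φ hφ3 _ _ _ _ _ _ (map_zero φ), ← uu_zero φ]
  simp [th_zero_left, ka_zero_left, ka_zero_right, tr_zero, nm_zero]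

/-- The conclusion. -/
def Good (x : GL chevD4.Idx K) : Prop := GConj φ x (xG hD4 23 1) ∨ GConj φ x (x2abG φ 1)

theorem Good.of_gconj {x y : GL chevD4.Idx K} (h : GConj φ x y) (hy : Good φ y) : Good φ x := by
  rcases hy with hy | hy
  · exact Or.inl (h.trans φ hy)
  · exact Or.inr (h.trans φ hy)

theorem add_div_self_mul (x y : K) (hx : x ≠ 0) : y + x * (y / x) = 0 := by
  have h : x * (y / x) = y := by field_simp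
  rw [h, CharTwo.add_self_eq_zero]

include hφ3 hMem hFL hFS in
/-- `x_b(v) x_{2a+b}(d)` with `v ≠ 0`. -/
theorem good_b_2ab [Fintype K] (v d : K) (hv : φ v = v) (hv0 : v ≠ 0) : Good φ (uu φ v 0 0 d 0 0) := by
  by_cases hd : d = 0
  · subst hd
    rw [uu_x14]
    exact Or.inl (hFL v hv hv0).1
  · have hn0 := nm_ne_zero φ d hd
    have hnf := phi_nm φ hφ3 d
    obtain ⟨μ, hμ, hμ2⟩ := arith4 φ (v / nm φ d) (by rw [map_div₀, hv, hnf])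
    -- the conjugate of `x_{2a+b}(d)` by `y_a(μ d)`
    have h6 := r6 φ hφ3 d (μ * d)
    have e1 : ka φ d (μ * d) = v := by
      have : ka φ d (μ * d) = μ * μ * nm φ d := by
        have e := tr_fixed φ (nm φ d) hnf
        unfold ka
        have e2 : d * φ (μ * d) * φ (φ (μ * d)) = μ * μ * nm φ d := by
          simp only [map_mul, hμ, nm]
          ring
        rw [e2]
        have e3 : φ (μ * μ * nm φ d) = μ * μ * nm φ d := by simp only [map_mul, hμ, hnf]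
        exact tr_fixed φ _ e3
      rw [this, hμ2]
      field_simp
    have e2 : th φ d (μ * d) = 0 := by
      simp only [th, map_mul, hμ]
      have : φ d * (μ * φ (φ d)) + φ (φ d) * (μ * φ d) = 2 * (μ * φ d * φ (φ d)) := by ring
      rw [this, CharTwo.two_eq_zero, zero_mul]
    rw [e1, e2, ← uu_r6] at h6
    obtain ⟨w, hw⟩ : ∃ w : K, w = tr φ (d * φ d * φ (φ (μ * d))) := ⟨_, rfl⟩
    have hwf : φ w = w := by rw [hw]; exact phi_tr φ hφ3 _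
    rw [← hw] at h6
    have hA : GConj φ (x2abG φ d) (uu φ v 0 0 d 0 w) :=
      GConj.of_invol φ (yaG_mem φ hφ3 _) (yaG_sq φ _) h6
    have h3 := cj3AB φ v 0 w 0 0 d (w / v)
    rw [add_div_self_mul v w hv0] at h3
    have hB : GConj φ (uu φ v 0 0 d 0 w) (uu φ v 0 0 d 0 0) :=
      GConj.of_invol φ (x22_mem φ hφ3 hMem _ (by rw [map_div₀, hwf, hv])) (xG_sq 22 _) h3
    exact Good.of_gconj φ ((hA.trans φ hB).symm φ) (Or.inr (hFS d hd).2.2)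


theorem uu_congr {u₁ a c d u₂ u₃ u₁' a' c' d' u₂' u₃' : K} (e1 : u₁ = u₁') (e2 : a = a') (e3 : c = c') (e4 : d = d')
    (e5 : u₂ = u₂') (e6 : u₃ = u₃') : uu φ u₁ a c d u₂ u₃ = uu φ u₁' a' c' d' u₂' u₃' := by
  rw [e1, e2, e3, e4, e5, e6]

include hφ3 hMem hFL in
/-- `a = 0`, `u₁ = 0`, `c = 0`, `d = 0`. -/
theorem good_long [Fintype K] (u₂ u₃ : K) (h₂ : φ u₂ = u₂) (h₃ : φ u₃ = u₃) (hne : uu φ 0 0 0 0 u₂ u₃ ≠ 1) :
    Good φ (uu φ 0 0 0 0 u₂ u₃) := by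
  by_cases h2 : u₂ = 0
  · subst h2
    have h3 : u₃ ≠ 0 := by
      rintro rfl
      exact hne (uu_zero φ)
    rw [uu_x23]
    exact Or.inl (hFL u₃ h₃ h3).2.2
  · have hw : φ (u₃ / u₂) = u₃ / u₂ := by rw [map_div₀, h₂, h₃]
    have h := cjB φ hφ3 0 u₂ u₃ 0 0 0 (u₃ / u₂) hw
    have e : uu φ 0 0 (0 + 0 * (u₃ / u₂)) (0 + φ 0 * φ (φ 0) * (u₃ / u₂)) (u₂ + nm φ 0 * (u₃ / u₂))
        (u₃ + ka φ 0 0 * (u₃ / u₂) + u₂ * (u₃ / u₂)) = uu φ 0 0 0 0 u₂ 0 := by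
      apply uu_congr <;> simp [CharTwo.add_self_eq_zero, nm_zero, ka_zero_left, add_div_self_mul u₂ u₃ h2]
    rw [e] at h
    have hA : GConj φ (uu φ 0 0 0 0 u₂ u₃) (uu φ 0 0 0 0 u₂ 0) :=
      GConj.of_invol φ (xbG_mem φ hφ3 _ hw) (xG_sq 14 _) h
    apply Good.of_gconj φ hA
    rw [uu_x22]
    exact Or.inl (hFL u₂ h₂ h2).2.1

include hφ3 hMem hFS in
/-- `a = 0`, `u₁ = 0`, `c = 0`, `d ≠ 0`. -/
theorem good_2ab [Fintype K] (d u₂ u₃ : K) (h₂ : φ u₂ = u₂) (h₃ : φ u₃ = u₃) (hd : d ≠ 0) :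
    Good φ (uu φ 0 0 0 d u₂ u₃) := by
  obtain ⟨s, hs⟩ := arith3 φ d u₂ hd h₂
  have h := cjA0 φ hφ3 0 u₂ u₃ 0 d s (map_zero φ)
  have e : uu φ 0 0 (0 + s * 0) (d + th φ 0 s + φ s * φ (φ s) * 0) (u₂ + ka φ 0 s + tr φ (d * s) + nm φ s * 0)
      (u₃ + ka φ s 0 + ka φ 0 s * 0 + nm φ s * 0 ^ 2) = uu φ 0 0 0 d 0 u₃ := by
    apply uu_congr <;> simp [CharTwo.add_self_eq_zero, th_zero_left, ka_zero_left, ka_zero_right, hs]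
  rw [e] at h
  have hA : GConj φ (uu φ 0 0 0 d u₂ u₃) (uu φ 0 0 0 d 0 u₃) :=
    GConj.of_invol φ (xaG_mem φ hφ3 _) (xaG_sq φ _) h
  obtain ⟨s', hs'⟩ := arith3 φ d u₃ hd h₃
  have h' := cjAB0 φ hφ3 0 u₃ 0 d s'
  have e' : uu φ 0 0 0 (d + th φ 0 s') (0 + ka φ s' 0) (u₃ + ka φ 0 s' + tr φ (d * s')) = uu φ 0 0 0 d 0 0 := by
    apply uu_congr <;> simp [CharTwo.add_self_eq_zero, th_zero_left, ka_zero_left, ka_zero_right, hs']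
  rw [e'] at h'
  have hB : GConj φ (uu φ 0 0 0 d 0 u₃) (uu φ 0 0 0 d 0 0) :=
    GConj.of_invol φ (xabG_mem φ hφ3 hMem _) (xabG_sq φ hφ3 _) h'
  apply Good.of_gconj φ (hA.trans φ hB)
  rw [uu_x2ab]
  exact Or.inr (hFS d hd).2.2

theorem th_smul_self (μ c : K) (hμ : φ μ = μ) : th φ c (μ * c) = 0 := by
  simp only [th, map_mul, hμ]
  have : φ c * (μ * φ (φ c)) + φ (φ c) * (μ * φ c) = 2 * (μ * φ c * φ (φ c)) := by ring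
  rw [this, CharTwo.two_eq_zero, zero_mul]

include hφ3 in
theorem ka_smul_self (μ c : K) (hμ : φ μ = μ) : ka φ c (μ * c) = μ * μ * nm φ c := by
  have hnf := phi_nm φ hφ3 c
  unfold ka
  have e2 : c * φ (μ * c) * φ (φ (μ * c)) = μ * μ * nm φ c := by
    simp only [map_mul, hμ, nm]
    ring
  rw [e2]
  exact tr_fixed φ _ (by simp only [map_mul, hμ, hnf])

include hφ3 in
theorem ka_self_smul (μ c : K) (hμ : φ μ = μ) : ka φ (μ * c) c = μ * nm φ c := by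
  have hnf := phi_nm φ hφ3 c
  unfold ka
  have e2 : μ * c * φ c * φ (φ c) = μ * nm φ c := by
    simp only [nm]
    ring
  rw [e2]
  exact tr_fixed φ _ (by simp only [map_mul, hμ, hnf])

include hφ3 hMem hFS in
/-- `a = 0`, `u₁ = 0`, `c ≠ 0`. -/
theorem good_ab [Fintype K] (c d u₂ u₃ : K) (h₂ : φ u₂ = u₂) (h₃ : φ u₃ = u₃) (hc : c ≠ 0)
    (hcd : tr φ (c * d) = 0) : Good φ (uu φ 0 0 c d u₂ u₃) := by
  -- kill `d`
  obtain ⟨s, hs⟩ := arith2 φ hφ3 c d hc hcd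
  have h := cjA0 φ hφ3 0 u₂ u₃ c d s (map_zero φ)
  obtain ⟨v₂, hv₂⟩ : ∃ v₂ : K, v₂ = u₂ + ka φ c s + tr φ (d * s) := ⟨_, rfl⟩
  obtain ⟨v₃, hv₃⟩ : ∃ v₃ : K, v₃ = u₃ + ka φ s c := ⟨_, rfl⟩
  have hv₂f : φ v₂ = v₂ := by
    rw [hv₂]; simp only [map_add, phi_ka φ hφ3, phi_tr φ hφ3, h₂]
  have hv₃f : φ v₃ = v₃ := by
    rw [hv₃]; simp only [map_add, phi_ka φ hφ3, h₃]
  have e : uu φ 0 0 (c + s * 0) (d + th φ c s + φ s * φ (φ s) * 0) (u₂ + ka φ c s + tr φ (d * s) + nm φ s * 0)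
      (u₃ + ka φ s c + ka φ c s * 0 + nm φ s * 0 ^ 2) = uu φ 0 0 c 0 v₂ v₃ := by
    apply uu_congr <;> simp [CharTwo.add_self_eq_zero, hs, hv₂, hv₃]
  rw [e] at h
  have hA : GConj φ (uu φ 0 0 c d u₂ u₃) (uu φ 0 0 c 0 v₂ v₃) :=
    GConj.of_invol φ (xaG_mem φ hφ3 _) (xaG_sq φ _) h
  -- kill `v₂`
  have hn0 := nm_ne_zero φ c hc
  have hnf := phi_nm φ hφ3 c
  obtain ⟨μ, hμ, hμ2⟩ := arith4 φ (v₂ / nm φ c) (by rw [map_div₀, hv₂f, hnf])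
  have h2 := cjA0 φ hφ3 0 v₂ v₃ c 0 (μ * c) (map_zero φ)
  obtain ⟨w₃, hw₃⟩ : ∃ w₃ : K, w₃ = v₃ + ka φ (μ * c) c := ⟨_, rfl⟩
  have hw₃f : φ w₃ = w₃ := by
    rw [hw₃]; simp only [map_add, phi_ka φ hφ3, hv₃f]
  have e2 : uu φ 0 0 (c + μ * c * 0) (0 + th φ c (μ * c) + φ (μ * c) * φ (φ (μ * c)) * 0)
      (v₂ + ka φ c (μ * c) + tr φ (0 * (μ * c)) + nm φ (μ * c) * 0)
      (v₃ + ka φ (μ * c) c + ka φ c (μ * c) * 0 + nm φ (μ * c) * 0 ^ 2) = uu φ 0 0 c 0 0 w₃ := by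
    apply uu_congr
    · rfl
    · rfl
    · simp
    · simp [th_smul_self φ μ c hμ]
    · rw [ka_smul_self φ hφ3 μ c hμ, hμ2]
      simp only [zero_mul, tr_zero, mul_zero, add_zero]
      have : v₂ / nm φ c * nm φ c = v₂ := by field_simp
      rw [this, CharTwo.add_self_eq_zero]
    · simp [CharTwo.add_self_eq_zero, hw₃]
  rw [e2] at h2
  have hB : GConj φ (uu φ 0 0 c 0 v₂ v₃) (uu φ 0 0 c 0 0 w₃) :=
    GConj.of_invol φ (xaG_mem φ hφ3 _) (xaG_sq φ _) h2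
  -- kill `w₃`
  obtain ⟨s₃, hs₃⟩ := arith3 φ c w₃ hc hw₃f
  have h3 := cj2AB φ hφ3 0 0 w₃ 0 c 0 s₃
  have e3 : uu φ 0 0 c 0 (0 + tr φ (0 * s₃)) (w₃ + tr φ (c * s₃)) = uu φ 0 0 c 0 0 0 := by
    apply uu_congr <;> simp [CharTwo.add_self_eq_zero, tr_zero, hs₃]
  rw [e3] at h3
  have hC : GConj φ (uu φ 0 0 c 0 0 w₃) (uu φ 0 0 c 0 0 0) :=
    GConj.of_invol φ (x2abG_mem φ hφ3 hMem _) (x2abG_sq φ hφ3 _) h3
  apply Good.of_gconj φ ((hA.trans φ hB).trans φ hC)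
  rw [uu_xab]
  exact Or.inr (hFS c hc).2.1

include hφ3 hInj hMem hFL hFS in
/-- `a = 0`, `u₁ ≠ 0`. -/
theorem good_b [Fintype K] (u₁ c d u₂ u₃ : K) (h₁ : φ u₁ = u₁) (h₂ : φ u₂ = u₂) (h₃ : φ u₃ = u₃) (hu : u₁ ≠ 0)
    (hsq : uu φ u₁ 0 c d u₂ u₃ * uu φ u₁ 0 c d u₂ u₃ = 1) : Good φ (uu φ u₁ 0 c d u₂ u₃) := by
  have h := cjA0 φ hφ3 u₁ u₂ u₃ c d (c / u₁) h₁
  obtain ⟨d', hd'⟩ : ∃ d' : K, d' = d + th φ c (c / u₁) + φ (c / u₁) * φ (φ (c / u₁)) * u₁ := ⟨_, rfl⟩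
  obtain ⟨v₂, hv₂⟩ : ∃ v₂ : K, v₂ = u₂ + ka φ c (c / u₁) + tr φ (d * (c / u₁)) + nm φ (c / u₁) * u₁ := ⟨_, rfl⟩
  obtain ⟨v₃, hv₃⟩ : ∃ v₃ : K, v₃ = u₃ + ka φ (c / u₁) c + ka φ c (c / u₁) * u₁ + nm φ (c / u₁) * u₁ ^ 2 :=
    ⟨_, rfl⟩
  have hv₃f : φ v₃ = v₃ := by
    rw [hv₃]; simp only [map_add, map_mul, map_pow, phi_ka φ hφ3, phi_nm φ hφ3, h₃, h₁]
  have e : uu φ u₁ 0 (c + c / u₁ * u₁) (d + th φ c (c / u₁) + φ (c / u₁) * φ (φ (c / u₁)) * u₁)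
      (u₂ + ka φ c (c / u₁) + tr φ (d * (c / u₁)) + nm φ (c / u₁) * u₁)
      (u₃ + ka φ (c / u₁) c + ka φ c (c / u₁) * u₁ + nm φ (c / u₁) * u₁ ^ 2) = uu φ u₁ 0 0 d' v₂ v₃ := by
    apply uu_congr
    · rfl
    · rfl
    · have : c / u₁ * u₁ = c := by field_simp
      rw [this, CharTwo.add_self_eq_zero]
    · exact hd'.symm
    · exact hv₂.symm
    · exact hv₃.symm
  rw [e] at h
  have hA : GConj φ (uu φ u₁ 0 c d u₂ u₃) (uu φ u₁ 0 0 d' v₂ v₃) :=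
    GConj.of_invol φ (xaG_mem φ hφ3 _) (xaG_sq φ _) h
  obtain ⟨-, -, -, k4⟩ := sq_conds φ hφ3 hInj h₁ (hA.sq φ hsq)
  have hv₂0 : v₂ = 0 := by
    simp only [nm_zero, zero_mul, ka_zero_left, tr_zero, zero_add] at k4
    exact (mul_eq_zero.mp k4).resolve_left hu
  subst hv₂0
  have h3 := cj3AB φ u₁ 0 v₃ 0 0 d' (v₃ / u₁)
  rw [add_div_self_mul u₁ v₃ hu] at h3
  have hB : GConj φ (uu φ u₁ 0 0 d' 0 v₃) (uu φ u₁ 0 0 d' 0 0) :=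
    GConj.of_invol φ (x22_mem φ hφ3 hMem _ (by rw [map_div₀, hv₃f, h₁])) (xG_sq 22 _) h3
  exact Good.of_gconj φ (hA.trans φ hB) (good_b_2ab φ hφ3 hMem hFL hFS u₁ d' h₁ hu)

include hφ3 hInj hMem hFS in
/-- `a ≠ 0`. -/
theorem good_a [Fintype K] (a c d u₂ u₃ : K) (h₂ : φ u₂ = u₂) (h₃ : φ u₃ = u₃) (ha : a ≠ 0)
    (hsq : uu φ 0 a c d u₂ u₃ * uu φ 0 a c d u₂ u₃ = 1) : Good φ (uu φ 0 a c d u₂ u₃) := by
  obtain ⟨-, k2, -, -⟩ := sq_conds φ hφ3 hInj (map_zero φ) hsq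
  rw [mul_zero, zero_add] at k2
  obtain ⟨l, hl, rfl⟩ := arith1 φ hφ3 a c ha k2
  -- kill `c`
  have h := cjB φ hφ3 0 u₂ u₃ a (l * a) d l hl
  obtain ⟨d', hd'⟩ : ∃ d' : K, d' = d + φ a * φ (φ a) * l := ⟨_, rfl⟩
  obtain ⟨v₂, hv₂⟩ : ∃ v₂ : K, v₂ = u₂ + nm φ a * l := ⟨_, rfl⟩
  obtain ⟨v₃, hv₃⟩ : ∃ v₃ : K, v₃ = u₃ + ka φ (l * a) a * l + u₂ * l := ⟨_, rfl⟩
  have hv₂f : φ v₂ = v₂ := by
    rw [hv₂]; simp only [map_add, map_mul, phi_nm φ hφ3, h₂, hl]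
  have hv₃f : φ v₃ = v₃ := by
    rw [hv₃]; simp only [map_add, map_mul, phi_ka φ hφ3, h₂, h₃, hl]
  have e : uu φ 0 a (l * a + a * l) (d + φ a * φ (φ a) * l) (u₂ + nm φ a * l)
      (u₃ + ka φ (l * a) a * l + u₂ * l) = uu φ 0 a 0 d' v₂ v₃ := by
    apply uu_congr
    · rfl
    · rfl
    · rw [mul_comm a l, CharTwo.add_self_eq_zero]
    · exact hd'.symm
    · exact hv₂.symm
    · exact hv₃.symm
  rw [e] at h
  have hA : GConj φ (uu φ 0 a (l * a) d u₂ u₃) (uu φ 0 a 0 d' v₂ v₃) :=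
    GConj.of_invol φ (xbG_mem φ hφ3 _ hl) (xG_sq 14 _) h
  obtain ⟨-, -, k3, -⟩ := sq_conds φ hφ3 hInj (map_zero φ) (hA.sq φ hsq)
  rw [mul_zero, zero_add, ka_zero_left, zero_add] at k3
  -- kill `d'`
  obtain ⟨s, hs⟩ := arith2 φ hφ3 a d' ha k3
  have h2 := cjAB0 φ hφ3 v₂ v₃ a d' s
  obtain ⟨w₂, hw₂⟩ : ∃ w₂ : K, w₂ = v₂ + ka φ s a := ⟨_, rfl⟩
  obtain ⟨w₃, hw₃⟩ : ∃ w₃ : K, w₃ = v₃ + ka φ a s + tr φ (d' * s) := ⟨_, rfl⟩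
  have hw₂f : φ w₂ = w₂ := by
    rw [hw₂]; simp only [map_add, phi_ka φ hφ3, hv₂f]
  have hw₃f : φ w₃ = w₃ := by
    rw [hw₃]; simp only [map_add, phi_ka φ hφ3, phi_tr φ hφ3, hv₃f]
  have e2 : uu φ 0 a 0 (d' + th φ a s) (v₂ + ka φ s a) (v₃ + ka φ a s + tr φ (d' * s)) = uu φ 0 a 0 0 w₂ w₃ := by
    apply uu_congr
    · rfl
    · rfl
    · rfl
    · rw [hs, CharTwo.add_self_eq_zero]
    · exact hw₂.symm
    · exact hw₃.symm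
  rw [e2] at h2
  have hB : GConj φ (uu φ 0 a 0 d' v₂ v₃) (uu φ 0 a 0 0 w₂ w₃) :=
    GConj.of_invol φ (xabG_mem φ hφ3 hMem _) (xabG_sq φ hφ3 _) h2
  -- kill `w₂`
  obtain ⟨s₃, hs₃⟩ := arith3 φ a w₂ ha hw₂f
  have h3 := cj2AB φ hφ3 0 w₂ w₃ a 0 0 s₃
  have e3 : uu φ 0 a 0 0 (w₂ + tr φ (a * s₃)) (w₃ + tr φ (0 * s₃)) = uu φ 0 a 0 0 0 w₃ := by
    apply uu_congr <;> simp [CharTwo.add_self_eq_zero, tr_zero, hs₃]
  rw [e3] at h3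
  have hC : GConj φ (uu φ 0 a 0 0 w₂ w₃) (uu φ 0 a 0 0 0 w₃) :=
    GConj.of_invol φ (x2abG_mem φ hφ3 hMem _) (x2abG_sq φ hφ3 _) h3
  -- `x_a(a) x_{3a+2b}(w₃)` is conjugate to `x_a(a)`
  have hn0 := nm_ne_zero φ a ha
  have hnf := phi_nm φ hφ3 a
  obtain ⟨μ, hμ, hμ2⟩ := arith4 φ (w₃ / nm φ a) (by rw [map_div₀, hw₃f, hnf])
  have h4 := cjAB0 φ hφ3 0 0 a 0 (μ * a)
  have e4 : uu φ 0 a 0 (0 + th φ a (μ * a)) (0 + ka φ (μ * a) a) (0 + ka φ a (μ * a) + tr φ (0 * (μ * a)))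
      = uu φ 0 a 0 0 (μ * nm φ a) w₃ := by
    apply uu_congr
    · rfl
    · rfl
    · rfl
    · rw [th_smul_self φ μ a hμ, add_zero]
    · rw [ka_self_smul φ hφ3 μ a hμ, zero_add]
    · rw [ka_smul_self φ hφ3 μ a hμ, hμ2, zero_mul, tr_zero, add_zero, zero_add]
      field_simp
  rw [e4] at h4
  have hD : GConj φ (uu φ 0 a 0 0 0 0) (uu φ 0 a 0 0 (μ * nm φ a) w₃) :=
    GConj.of_invol φ (xabG_mem φ hφ3 hMem _) (xabG_sq φ hφ3 _) h4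
  have hx₂f : φ (μ * nm φ a) = μ * nm φ a := by rw [map_mul, hμ, hnf]
  obtain ⟨s₅, hs₅⟩ := arith3 φ a (μ * nm φ a) ha hx₂f
  have h5 := cj2AB φ hφ3 0 (μ * nm φ a) w₃ a 0 0 s₅
  have e5 : uu φ 0 a 0 0 (μ * nm φ a + tr φ (a * s₅)) (w₃ + tr φ (0 * s₅)) = uu φ 0 a 0 0 0 w₃ := by
    apply uu_congr <;> simp [CharTwo.add_self_eq_zero, tr_zero, hs₅]
  rw [e5] at h5
  have hE : GConj φ (uu φ 0 a 0 0 (μ * nm φ a) w₃) (uu φ 0 a 0 0 0 w₃) :=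
    GConj.of_invol φ (x2abG_mem φ hφ3 hMem _) (x2abG_sq φ hφ3 _) h5
  have hF : GConj φ (uu φ 0 a (l * a) d u₂ u₃) (uu φ 0 a 0 0 0 0) :=
    ((hA.trans φ hB).trans φ hC).trans φ ((hD.trans φ hE).symm φ)
  apply Good.of_gconj φ hF
  rw [uu_xa]
  exact Or.inr (hFS a ha).1

include hφ3 hInj hMem hFL hFS in
/-- [D4INV-CLS] Every involution of `U¹` is conjugate in the twisted group to `x_{3a+2b}(1)` or to `x_{2a+b}(1)`. -/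
theorem invol_U_of [Fintype K] (u₁ a c d u₂ u₃ : K) (h₁ : φ u₁ = u₁) (h₂ : φ u₂ = u₂) (h₃ : φ u₃ = u₃)
    (hne : uu φ u₁ a c d u₂ u₃ ≠ 1) (hsq : uu φ u₁ a c d u₂ u₃ * uu φ u₁ a c d u₂ u₃ = 1) :
    GConj φ (uu φ u₁ a c d u₂ u₃) (xG hD4 23 1) ∨ GConj φ (uu φ u₁ a c d u₂ u₃) (x2abG φ 1) := by
  obtain ⟨k1, -, -, k4⟩ := sq_conds φ hφ3 hInj h₁ hsq
  by_cases ha : a = 0
  · subst ha
    by_cases hu : u₁ = 0
    · subst hu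
      by_cases hc : c = 0
      · subst hc
        by_cases hd : d = 0
        · subst hd
          exact good_long φ hφ3 hMem hFL u₂ u₃ h₂ h₃ hne
        · exact good_2ab φ hφ3 hMem hFS d u₂ u₃ h₂ h₃ hd
      · have hcd : tr φ (c * d) = 0 := by
          simpa [nm_zero, ka_zero_left] using k4
        exact good_ab φ hφ3 hMem hFS c d u₂ u₃ h₂ h₃ hc hcd
    · exact good_b φ hφ3 hInj hMem hFL hFS u₁ c d u₂ u₃ h₁ h₂ h₃ hu hsq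
  · have hu : u₁ = 0 := (mul_eq_zero.mp k1).resolve_left ha
    subst hu
    exact good_a φ hφ3 hInj hMem hFS a c d u₂ u₃ h₂ h₃ ha hsq

end Main

end Cfsg.Agent.Lib.Helper91.D4Inv
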