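/-
helper91: project D4INV (S2183), module [CLS] in its exact form: every involution of `U¹` of `³D₄(q)`, `q` even,
is conjugate in the twisted group to `x_{3a+2b}(1)` or to the short root element `x_{2a+b}(1)`.
Inputs: [NF] (helper6), [FL] and [FS] (helper69).
-/
import Cfsg.Agent.Lib.Helper91.D4Inv.Classify
import Cfsg.Agent.Lib.Helper6.D4InvNF
import Cfsg.Agent.Lib.Helper69.D4InvFS

set_option autoImplicit false

namespace Cfsg.Agent.Lib.Helper91.D4Inv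

open Cfsg Cfsg.Lie Cfsg.Agent.Lib.Helper18 Cfsg.Agent.Lib.Helper91.TwOut

universe u

variable {K : Type u} [Field K] [CharP K 2] (φ : K ≃+* K)

/-- D4INV-[CLS] -/
theorem invol_U [Fintype K] (hφ3 : ∀ a : K, φ (φ (φ a)) = a) (u₁ a c d u₂ u₃ : K) (h₁ : φ u₁ = u₁)
    (h₂ : φ u₂ = u₂) (h₃ : φ u₃ = u₃) (hne : uu φ u₁ a c d u₂ u₃ ≠ 1)
    (hsq : uu φ u₁ a c d u₂ u₃ * uu φ u₁ a c d u₂ u₃ = 1) :
    GConj φ (uu φ u₁ a c d u₂ u₃) (xG hD4 23 1) ∨ GConj φ (uu φ u₁ a c d u₂ u₃) (x2abG φ 1) :=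
  invol_U_of φ hφ3 (Cfsg.Agent.Lib.Helper6.D4Inv.uu_injective φ) (Cfsg.Agent.Lib.Helper6.D4Inv.uu_mem φ hφ3)
    (Cfsg.Agent.Lib.Helper69.D4Inv.fuse_long φ hφ3) (Cfsg.Agent.Lib.Helper69.D4Inv.fuse_short φ hφ3)
    u₁ a c d u₂ u₃ h₁ h₂ h₃ hne hsq

end Cfsg.Agent.Lib.Helper91.D4Inv
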