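/-
helper91: project D4INV (S2183): the word identity `cj3AB` in independent variables (from its certificate).
-/
import Cfsg.Agent.Lib.Helper91.D4Inv.Defs
import Cfsg.Agent.Lib.Helper91.D4Inv.ChkCj3AB

set_option autoImplicit false

namespace Cfsg.Agent.Lib.Helper91.D4Inv

open Cfsg Cfsg.Lie Cfsg.Agent.Lib.Helper18 Cfsg.Agent.Lib.Helper91.TwOut Cfsg.Agent.Lib.Helper91.ExcAut

universe u

variable {K : Type u} [Field K] [CharP K 2]

set_option maxHeartbeats 1000000 in
theorem cj3AB_raw (u1 u2 u3 a0 a1 a2 c0 c1 c2 d0 d1 d2 w : K) :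
    wordG hD4 [(22, w), (14, u1), (18, a0), (13, a1), (12, a2), (19, c0), (16, c1), (15, c2), (17, d0), (20, d1), (21, d2), (22, u2), (23, u3), (22, w)]
      = wordG hD4 [(14, u1), (18, a0), (13, a1), (12, a2), (19, c0), (16, c1), (15, c2), (17, d0), (20, d1), (21, d2), (22, u2), (23, u1 * w + u3)] := by
  have h := cert [u1, u2, u3, a0, a1, a2, c0, c1, c2, d0, d1, d2, w] cj3AB_l cj3AB_r cj3AB_chk
  have e1 : evWord (vρ ((1 : K) :: 1 :: [u1, u2, u3, a0, a1, a2, c0, c1, c2, d0, d1, d2, w])) cj3AB_l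
      = [(22, w), (14, u1), (18, a0), (13, a1), (12, a2), (19, c0), (16, c1), (15, c2), (17, d0), (20, d1), (21, d2), (22, u2), (23, u3), (22, w)] := by
    simp only [cj3AB_l, evWord, List.map_cons, List.map_nil, List.cons.injEq, Prod.mk.injEq, true_and, and_true]
    and_intros <;> simp [evPoly, evMono, evExp, vρ]
  have e2 : evWord (vρ ((1 : K) :: 1 :: [u1, u2, u3, a0, a1, a2, c0, c1, c2, d0, d1, d2, w])) cj3AB_r
      = [(14, u1), (18, a0), (13, a1), (12, a2), (19, c0), (16, c1), (15, c2), (17, d0), (20, d1), (21, d2), (22, u2), (23, u1 * w + u3)] := by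
    simp only [cj3AB_r, evWord, List.map_cons, List.map_nil, List.cons.injEq, Prod.mk.injEq, true_and, and_true]
    and_intros <;> (simp [evPoly, evMono, evExp, vρ]; try ring)
  rw [e1, e2] at h
  exact h

end Cfsg.Agent.Lib.Helper91.D4Inv
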